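import Mathlib

/-!
Finite field extensions by cardinality, and restriction of scalars for symplectic groups.
-/

set_option autoImplicit false

namespace Cfsg.Agent.Lib.FieldRed

open Matrix

/-- An algebra structure when the cardinality of `K` is a power of that of `F`. -/
theorem exists_ringHom {F K : Type*} [Field F] [Fintype F] [Field K] [Fintype K] {d : ℕ}
    (h : Fintype.card K = Fintype.card F ^ d) : Nonempty (F →+* K) := by
  obtain ⟨p, hp⟩ := CharP.exists F
  obtain ⟨f, hpr, hF⟩ := FiniteField.card F p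
  haveI := Fact.mk hpr
  obtain ⟨p', hp'⟩ := CharP.exists K
  obtain ⟨e, hpr', hK⟩ := FiniteField.card K p'
  have hpp : p' = p := by
    have h1 : p' ∣ p ^ ((f : ℕ) * d) := by
      rw [pow_mul, ← hF, ← h, hK]
      exact dvd_pow_self _ e.ne_zero
    exact (Nat.prime_dvd_prime_iff_eq hpr' hpr).1 (hpr'.dvd_of_dvd_pow h1)
  subst hpp
  letI := ZMod.algebra F p'
  letI := ZMod.algebra K p'
  have hd : Module.finrank (ZMod p') F ∣ Module.finrank (ZMod p') K := by
    have h1 : Fintype.card F = p' ^ Module.finrank (ZMod p') F := by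
      rw [Module.card_eq_pow_finrank (K := ZMod p'), ZMod.card]
    have h2 : Fintype.card K = p' ^ Module.finrank (ZMod p') K := by
      rw [Module.card_eq_pow_finrank (K := ZMod p'), ZMod.card]
    rw [h1, ← pow_mul, h2] at h
    exact ⟨d, Nat.pow_right_injective hpr.two_le h⟩
  obtain ⟨φ⟩ := FiniteField.nonempty_algHom_of_finrank_dvd hd
  exact ⟨φ.toRingHom⟩

theorem finrank_eq {F K : Type*} [Field F] [Fintype F] [Field K] [Fintype K] [Algebra F K] {d : ℕ}
    (h : Fintype.card K = Fintype.card F ^ d) : Module.finrank F K = d := by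
  rw [Module.card_eq_pow_finrank (K := F)] at h
  exact Nat.pow_right_injective Fintype.one_lt_card h

section Restriction

variable {F K : Type*} [Field F] [Field K] [Algebra F K] {κ : Type*} [Fintype κ] [DecidableEq κ]
  (b : Module.Basis κ F K)

include b in
omit [Fintype κ] [DecidableEq κ] in
theorem exists_functional [Nonempty κ] : ∃ lam : K →ₗ[F] F, lam ≠ 0 := by
  refine ⟨b.coord (Classical.arbitrary κ), fun h => ?_⟩
  have := LinearMap.congr_fun h (b (Classical.arbitrary κ))
  simp at this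

/-- The Gram matrix of the symmetric form `(x, y) ↦ lam (x * y)`. -/
noncomputable def gram (lam : K →ₗ[F] F) : Matrix κ κ F := Matrix.of fun i j => lam (b i * b j)

theorem gram_mul (lam : K →ₗ[F] F) (z : K) (i j : κ) :
    (gram b lam * Algebra.leftMulMatrix b z) i j = lam (b i * (z * b j)) := by
  conv_rhs => rw [← b.sum_repr (z * b j), Finset.mul_sum, map_sum]
  simp [Matrix.mul_apply, gram, Algebra.leftMulMatrix_eq_repr_mul, mul_comm]

theorem gram_symm (lam : K →ₗ[F] F) : (gram b lam)ᵀ = gram b lam := by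
  ext i j
  simp [gram, mul_comm]

theorem leftMulMatrix_transpose_mul_gram (lam : K →ₗ[F] F) (z : K) :
    (Algebra.leftMulMatrix b z)ᵀ * gram b lam = gram b lam * Algebra.leftMulMatrix b z := by
  ext i j
  have h := gram_mul b lam z j i
  have h2 : ((Algebra.leftMulMatrix b z)ᵀ * gram b lam) i j = (gram b lam * Algebra.leftMulMatrix b z) j i := by
    simp only [Matrix.mul_apply, transpose_apply]
    refine Finset.sum_congr rfl fun k _ => ?_
    rw [mul_comm]
    congr 1
    simp [gram, mul_comm]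
  rw [h2, h, gram_mul]
  congr 1
  ring

theorem isUnit_gram {lam : K →ₗ[F] F} (hlam : lam ≠ 0) : IsUnit (gram b lam) := by
  rw [Matrix.isUnit_iff_isUnit_det, isUnit_iff_ne_zero]
  intro h
  obtain ⟨v, hv0, hv⟩ := Matrix.exists_mulVec_eq_zero_iff.2 h
  set w : K := ∑ k, v k • b k with hw
  have hw0 : w ≠ 0 := fun hw' => hv0 (funext (Fintype.linearIndependent_iff.1 b.linearIndependent v hw'))
  apply hlam
  have hall : ∀ i, lam (b i * w) = 0 := fun i => by
    have := congrFun hv i
    rw [hw, Finset.mul_sum, map_sum]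
    simpa [Matrix.mulVec, dotProduct, gram, mul_comm] using this
  refine LinearMap.ext fun x => ?_
  have hx : x = (x * w⁻¹) * w := by field_simp
  rw [hx, ← b.sum_repr (x * w⁻¹), Finset.sum_mul, map_sum]
  simp [hall]

variable {l : Type*} [Fintype l] [DecidableEq l]

/-- Replace every entry of a matrix by the matrix of multiplication by it. -/
noncomputable def blockRep : Matrix l l K →+* Matrix (l × κ) (l × κ) F :=
  (Matrix.compRingEquiv l κ F).toRingHom.comp (Algebra.leftMulMatrix b).toRingHom.mapMatrix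

theorem blockRep_apply (M : Matrix l l K) (i j : l) (k k' : κ) :
    blockRep b M (i, k) (j, k') = Algebra.leftMulMatrix b (M i j) k k' := rfl

theorem blockRep_injective : Function.Injective (blockRep b (l := l)) := by
  intro M N h
  ext i j
  exact Algebra.leftMulMatrix_injective b (Matrix.ext fun k k' => congrFun (congrFun h (i, k)) (j, k'))

open scoped Kronecker in
theorem blockRep_transpose_mul (lam : K →ₗ[F] F) (M : Matrix l l K) :
    (blockRep b M)ᵀ * ((1 : Matrix l l F) ⊗ₖ gram b lam) =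
      ((1 : Matrix l l F) ⊗ₖ gram b lam) * blockRep b Mᵀ := by
  ext ⟨i, k⟩ ⟨j, k'⟩
  simp only [Matrix.mul_apply, transpose_apply, blockRep_apply, kroneckerMap_apply, one_apply,
    Fintype.sum_prod_type]
  rw [Finset.sum_eq_single j (fun x _ hx => by simp [hx]) (by simp),
    Finset.sum_eq_single i (fun x _ hx => by simp [Ne.symm hx]) (by simp)]
  have := congrFun (congrFun (leftMulMatrix_transpose_mul_gram b lam (M j i)) k) k'
  simpa [Matrix.mul_apply] using this

open scoped Kronecker in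
include b in
/-- Restriction of scalars embeds a symplectic group over `K` into one over `F`. -/
theorem exists_symplectic_hom [Nonempty κ] :
    ∃ φ : ↥(symplecticGroup l K) →* ↥(symplecticGroup (l × κ) F), Function.Injective φ := by
  classical
  obtain ⟨lam, hlam⟩ := exists_functional b
  set S := gram b lam with hS
  obtain ⟨U, hU⟩ := isUnit_gram b hlam
  rw [← hS] at hU
  set Si : Matrix κ κ F := ((U⁻¹ : (Matrix κ κ F)ˣ) : Matrix κ κ F)
  have h1 : S * Si = 1 := by rw [← hU]; exact U.mul_inv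
  have h2 : Si * S = 1 := by rw [← hU]; exact U.inv_mul
  set W : Matrix ((l ⊕ l) × κ) ((l ⊕ l) × κ) F := blockRep b (Matrix.J l K) * ((1 : Matrix (l ⊕ l) (l ⊕ l) F) ⊗ₖ Si) with hW
  set e : (l ⊕ l) × κ ≃ (l × κ) ⊕ (l × κ) := Equiv.sumProdDistrib l l κ
  set R : Matrix (l ⊕ l) (l ⊕ l) K →* Matrix ((l × κ) ⊕ (l × κ)) ((l × κ) ⊕ (l × κ)) F :=
    ((Matrix.reindexAlgEquiv F F e).toRingEquiv.toRingHom.comp (blockRep b)).toMonoidHom with hR
  set E : Matrix (l × κ) (l × κ) F := (1 : Matrix l l F) ⊗ₖ S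
  set Ei : Matrix (l × κ) (l × κ) F := (1 : Matrix l l F) ⊗ₖ Si
  set T : Matrix ((l × κ) ⊕ (l × κ)) ((l × κ) ⊕ (l × κ)) F := fromBlocks E 0 0 1
  set Ti : Matrix ((l × κ) ⊕ (l × κ)) ((l × κ) ⊕ (l × κ)) F := fromBlocks Ei 0 0 1
  have hE : E * Ei = 1 := by simp [E, Ei, ← mul_kronecker_mul, h1, one_kronecker_one]
  have hE' : Ei * E = 1 := by simp [E, Ei, ← mul_kronecker_mul, h2, one_kronecker_one]
  have hTT : Ti * T = 1 := by simp [T, Ti, fromBlocks_multiply, hE', fromBlocks_one]
  have hTT' : T * Ti = 1 := by simp [T, Ti, fromBlocks_multiply, hE, fromBlocks_one]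
  have hWe : Matrix.reindex e e W = fromBlocks 0 (-Ei) Ei 0 := by
    ext x y
    rcases x with ⟨i, k⟩ | ⟨i, k⟩ <;> rcases y with ⟨j, k'⟩ | ⟨j, k'⟩ <;>
      simp [W, e, Ei, Matrix.mul_apply, blockRep_apply, Matrix.J, one_apply, Fintype.sum_prod_type,
        apply_ite (Algebra.leftMulMatrix b)] <;>
      by_cases hij : i = j <;> simp [hij, one_apply, Ne.symm, eq_comm]
  have hET : Eᵀ = E := by
    ext ⟨i, k⟩ ⟨j, k'⟩
    have := congrFun (congrFun (gram_symm b lam) k) k'
    simp only [transpose_apply, ← hS] at this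
    simp only [E, transpose_apply, kroneckerMap_apply, one_apply, this, eq_comm]
  have hTW : T * Matrix.reindex e e W * Tᵀ = Matrix.J (l × κ) F := by
    rw [hWe]
    simp [T, fromBlocks_transpose, fromBlocks_multiply, hE, hE', hET, Matrix.J]
  have hmem : ∀ M ∈ symplecticGroup l K, T * R M * Ti ∈ symplecticGroup (l × κ) F := by
    intro M hM
    rw [SymplecticGroup.mem_iff] at hM ⊢
    have hcomm : ((1 : Matrix (l ⊕ l) (l ⊕ l) F) ⊗ₖ Si) * (blockRep b M)ᵀ =
        blockRep b Mᵀ * ((1 : Matrix (l ⊕ l) (l ⊕ l) F) ⊗ₖ Si) := by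
      have h := blockRep_transpose_mul b lam M (l := l ⊕ l)
      rw [← hS] at h
      have hl : ((1 : Matrix (l ⊕ l) (l ⊕ l) F) ⊗ₖ Si) * ((1 : Matrix (l ⊕ l) (l ⊕ l) F) ⊗ₖ S) = 1 := by
        simp [← mul_kronecker_mul, h2, one_kronecker_one]
      have hr : ((1 : Matrix (l ⊕ l) (l ⊕ l) F) ⊗ₖ S) * ((1 : Matrix (l ⊕ l) (l ⊕ l) F) ⊗ₖ Si) = 1 := by
        simp [← mul_kronecker_mul, h1, one_kronecker_one]
      calc _ = ((1 : Matrix (l ⊕ l) (l ⊕ l) F) ⊗ₖ Si) * ((blockRep b M)ᵀ *
            ((1 : Matrix (l ⊕ l) (l ⊕ l) F) ⊗ₖ S)) * ((1 : Matrix (l ⊕ l) (l ⊕ l) F) ⊗ₖ Si) := by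
            rw [Matrix.mul_assoc, Matrix.mul_assoc (blockRep b M)ᵀ, hr, Matrix.mul_one]
        _ = _ := by rw [h, ← Matrix.mul_assoc, hl, Matrix.one_mul]
    have hWM : blockRep b M * W * (blockRep b M)ᵀ = W := by
      rw [hW, ← Matrix.mul_assoc, Matrix.mul_assoc _ _ (blockRep b M)ᵀ, hcomm, ← Matrix.mul_assoc,
        ← map_mul, ← map_mul, hM]
    have hWM' : R M * Matrix.reindex e e W * (R M)ᵀ = Matrix.reindex e e W := by
      conv_rhs => rw [← hWM]
      simp [R, Matrix.reindex_apply, Matrix.submatrix_mul_equiv]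
    conv_rhs => rw [← hTW, ← hWM']
    rw [← hTW, transpose_mul, transpose_mul]
    have hTtr : Tᵀ * Tiᵀ = 1 := by rw [← transpose_mul, hTT, transpose_one]
    calc T * R M * Ti * (T * Matrix.reindex e e W * Tᵀ) * (Tiᵀ * ((R M)ᵀ * Tᵀ))
        = T * R M * ((Ti * T) * Matrix.reindex e e W * (Tᵀ * Tiᵀ)) * ((R M)ᵀ * Tᵀ) := by
          simp only [Matrix.mul_assoc]
      _ = _ := by rw [hTT, hTtr, Matrix.one_mul, Matrix.mul_one]; simp only [Matrix.mul_assoc]
  let φ : ↥(symplecticGroup l K) →* ↥(symplecticGroup (l × κ) F) :=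
    { toFun := fun M => ⟨T * R M.1 * Ti, hmem M.1 M.2⟩
      map_one' := Subtype.ext (by simp [hTT'])
      map_mul' := fun M N => Subtype.ext (by
        calc T * R (M.1 * N.1) * Ti = T * R M.1 * ((Ti * T) * (R N.1 * Ti)) := by
              rw [hTT, Matrix.one_mul, map_mul]; simp only [Matrix.mul_assoc]
          _ = T * R M.1 * Ti * (T * R N.1 * Ti) := by simp only [Matrix.mul_assoc]) }
  refine ⟨φ, fun M N hMN => ?_⟩
  have h : T * R M.1 * Ti = T * R N.1 * Ti := congrArg Subtype.val hMN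
  have h' : R M.1 = R N.1 := by
    have := congrArg (fun A => Ti * A * T) h
    simpa [Matrix.mul_assoc, hTT, ← Matrix.mul_assoc Ti T] using this
  exact Subtype.ext (blockRep_injective b ((Matrix.reindexAlgEquiv F F e).injective h'))

/-- Symplectic groups on equivalent index types. -/
theorem exists_symplectic_reindex {R l' : Type*} [CommRing R] [Fintype l'] [DecidableEq l'] (e : l ≃ l') :
    ∃ φ : ↥(symplecticGroup l R) →* ↥(symplecticGroup l' R), Function.Injective φ := by
  set ee : l ⊕ l ≃ l' ⊕ l' := Equiv.sumCongr e e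
  have hJ : Matrix.reindex ee ee (Matrix.J l R) = Matrix.J l' R := by
    ext (x | x) (y | y) <;> simp [ee, Matrix.J, one_apply]
  have hmem : ∀ M ∈ symplecticGroup l R, Matrix.reindexAlgEquiv R R ee M ∈ symplecticGroup l' R := by
    intro M hM
    rw [SymplecticGroup.mem_iff] at hM ⊢
    rw [← hJ]
    simp only [Matrix.reindexAlgEquiv_apply, Matrix.reindex_apply, transpose_submatrix,
      Matrix.submatrix_mul_equiv, hM]
  exact ⟨{ toFun := fun M => ⟨Matrix.reindexAlgEquiv R R ee M.1, hmem M.1 M.2⟩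
           map_one' := Subtype.ext (map_one _)
           map_mul' := fun M N => Subtype.ext (map_mul _ _ _) },
    fun M N h => Subtype.ext ((Matrix.reindexAlgEquiv R R ee).injective (congrArg Subtype.val h))⟩

end Restriction

end Cfsg.Agent.Lib.FieldRed
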