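import Mathlib
import Cfsg.Prelude.Def_Classical
import Cfsg.Agent.Lib.FieldRed.Basic

/-!
Extension of scalars and change of variables for isometry groups of quadratic functions.
-/

set_option autoImplicit false

namespace Cfsg.Agent.Lib.FieldRed

open Matrix

theorem isometry_mem_iff {ι : Type} [Fintype ι] [DecidableEq ι] {F : Type*} [Field F]
    (Q : (ι → F) → F) (g : GL ι F) :
    g ∈ Cfsg.isometryGroup F Q ↔ ∀ v, Q ((g : Matrix ι ι F) *ᵥ v) = Q v :=
  ⟨fun h v => h v v, fun h v _ => h v⟩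

theorem alternate_quad_eq_zero {ι : Type*} [Fintype ι] [DecidableEq ι] {R : Type*} [CommRing R]
    {D : Matrix ι ι R} (hd : ∀ i, D i i = 0) (ho : ∀ i j, D j i = -D i j) (v : ι → R) :
    v ⬝ᵥ (D *ᵥ v) = 0 := by
  let e := Fintype.equivFin ι
  let U : Matrix ι ι R := Matrix.of fun i j => if e i < e j then D i j else 0
  have hD : D = U - Uᵀ := by
    ext i j
    rcases lt_trichotomy (e i) (e j) with h | h | h
    · simp [U, h, h.not_gt]
    · have hij := e.injective h
      subst hij
      simp [U, hd]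
    · simp [U, h, h.not_gt, ho i j]
  rw [hD, sub_mulVec, dotProduct_sub, mulVec_transpose, dotProduct_comm v (v ᵥ* U),
    ← dotProduct_mulVec, sub_self]

theorem alternate_of_quad_zero {ι : Type*} [Fintype ι] [DecidableEq ι] {R : Type*} [CommRing R]
    {D : Matrix ι ι R} (h : ∀ v : ι → R, v ⬝ᵥ (D *ᵥ v) = 0) :
    (∀ i, D i i = 0) ∧ ∀ i j, D j i = -D i j := by
  have hd : ∀ i, D i i = 0 := fun i => by simpa using h (Pi.single i 1)
  refine ⟨hd, fun i j => ?_⟩
  have := h (Pi.single i 1 + Pi.single j 1)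
  simp [Matrix.mulVec_add, add_dotProduct, hd] at this
  exact eq_neg_of_add_eq_zero_left this

/-- Extension of scalars for isometries of a quadratic function given by a matrix. -/
theorem exists_baseChange_hom {ι : Type} [Fintype ι] [DecidableEq ι] {F K : Type*} [Field F] [Field K]
    (f : F →+* K) (A : Matrix ι ι F) (QF : (ι → F) → F) (QK : (ι → K) → K)
    (hF : ∀ v, QF v = v ⬝ᵥ (A *ᵥ v)) (hK : ∀ v, QK v = v ⬝ᵥ (A.map f *ᵥ v)) :
    ∃ φ : ↥(Cfsg.isometryGroup F QF) →* ↥(Cfsg.isometryGroup K QK), Function.Injective φ := by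
  have hmem : ∀ g : ↥(Cfsg.isometryGroup F QF),
      Matrix.GeneralLinearGroup.map f g.1 ∈ Cfsg.isometryGroup K QK := by
    rintro ⟨g, hg⟩
    rw [isometry_mem_iff] at hg ⊢
    have h0 : ∀ v : ι → F, v ⬝ᵥ (((g : Matrix ι ι F)ᵀ * A * (g : Matrix ι ι F) - A) *ᵥ v) = 0 := fun v => by
      rw [sub_mulVec, dotProduct_sub, ← mulVec_mulVec, ← mulVec_mulVec, dotProduct_mulVec,
        vecMul_transpose, ← hF, ← hF, hg, sub_self]
    obtain ⟨hd, ho⟩ := alternate_of_quad_zero h0
    intro v
    have h1 : v ⬝ᵥ ((((g : Matrix ι ι F)ᵀ * A * (g : Matrix ι ι F) - A).map f) *ᵥ v) = 0 :=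
      alternate_quad_eq_zero (fun i => by rw [map_apply, hd, map_zero])
        (fun i j => by rw [map_apply, map_apply, ho i j, map_neg]) v
    rw [Matrix.map_sub _ (map_sub f), Matrix.map_mul, Matrix.map_mul, transpose_map, sub_mulVec,
      dotProduct_sub, ← mulVec_mulVec, ← mulVec_mulVec, dotProduct_mulVec, vecMul_transpose,
      sub_eq_zero] at h1
    rw [hK, hK]
    exact h1
  refine ⟨((Matrix.GeneralLinearGroup.map f).comp (Cfsg.isometryGroup F QF).subtype).codRestrict _ hmem,
    fun g h hgh => ?_⟩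
  have := congrArg (fun x : ↥(Cfsg.isometryGroup K QK) => ((x.1 : GL ι K) : Matrix ι ι K)) hgh
  exact Subtype.ext (Units.ext (Matrix.map_injective f.injective this))

/-- Change of variables for isometry groups. -/
theorem exists_congr_hom {ι κ : Type} [Fintype ι] [DecidableEq ι] [Fintype κ] [DecidableEq κ]
    {K : Type*} [Field K] (Q1 : (ι → K) → K) (Q2 : (κ → K) → K) (L : (ι → K) ≃ₗ[K] (κ → K))
    (hL : ∀ v, Q2 (L v) = Q1 v) :
    ∃ φ : ↥(Cfsg.isometryGroup K Q1) →* ↥(Cfsg.isometryGroup K Q2), Function.Injective φ := by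
  let A := LinearMap.toMatrix' L.toLinearMap
  let B := LinearMap.toMatrix' L.symm.toLinearMap
  have hAB : A * B = 1 := by
    rw [← LinearMap.toMatrix'_comp, LinearEquiv.comp_symm, LinearMap.toMatrix'_id]
  have hBA : B * A = 1 := by
    rw [← LinearMap.toMatrix'_comp, LinearEquiv.symm_comp, LinearMap.toMatrix'_id]
  have hmul : ∀ M N : Matrix ι ι K, A * M * B * (A * N * B) = A * (M * N) * B := fun M N => by
    calc A * M * B * (A * N * B) = A * M * (B * A) * (N * B) := by simp only [Matrix.mul_assoc]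
      _ = _ := by rw [hBA, Matrix.mul_one]; simp only [Matrix.mul_assoc]
  let Φ : GL ι K →* GL κ K :=
    { toFun := fun g =>
        { val := A * (g : Matrix ι ι K) * B
          inv := A * ((g⁻¹ : GL ι K) : Matrix ι ι K) * B
          val_inv := by rw [hmul, Units.mul_inv, Matrix.mul_one, hAB]
          inv_val := by rw [hmul, Units.inv_mul, Matrix.mul_one, hAB] }
      map_one' := Units.ext (by simp [hAB])
      map_mul' := fun g h => Units.ext (hmul g.1 h.1).symm }
  have hmem : ∀ g : ↥(Cfsg.isometryGroup K Q1), Φ g.1 ∈ Cfsg.isometryGroup K Q2 := by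
    rintro ⟨g, hg⟩
    rw [isometry_mem_iff] at hg ⊢
    intro v
    show Q2 ((A * (g : Matrix ι ι K) * B) *ᵥ v) = Q2 v
    rw [← mulVec_mulVec, ← mulVec_mulVec, LinearMap.toMatrix'_mulVec, LinearMap.toMatrix'_mulVec]
    simp only [LinearEquiv.coe_coe]
    rw [hL, hg, ← hL, LinearEquiv.apply_symm_apply]
  refine ⟨(Φ.comp (Cfsg.isometryGroup K Q1).subtype).codRestrict _ hmem, fun g h hgh => ?_⟩
  have := congrArg (fun x : ↥(Cfsg.isometryGroup K Q2) => B * ((x.1 : GL κ K) : Matrix κ κ K) * A) hgh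
  change B * (A * (g.1 : Matrix ι ι K) * B) * A = B * (A * (h.1 : Matrix ι ι K) * B) * A at this
  have hs : ∀ M : Matrix ι ι K, B * (A * M * B) * A = M := fun M => by
    rw [← Matrix.mul_assoc, ← Matrix.mul_assoc, hBA, Matrix.one_mul, Matrix.mul_assoc, hBA, Matrix.mul_one]
  rw [hs, hs] at this
  exact Subtype.ext (Units.ext this)

/-- A monic quadratic over a finite field has a root in any quadratic extension. -/
theorem exists_root_quadratic {F K : Type*} [Field F] [Fintype F] [Field K] [Fintype K] [Algebra F K]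
    (hd : Module.finrank F K = 2) (a b : F) (hno : ∀ z : F, z ^ 2 + a * z + b ≠ 0) :
    ∃ r : K, r ^ 2 + algebraMap F K a * r + algebraMap F K b = 0 := by
  let P : Polynomial F := Polynomial.X ^ 2 + Polynomial.C a * Polynomial.X + Polynomial.C b
  have hP2 : P.natDegree = 2 := by
    simp only [P]
    compute_degree!
  have hPm : P.Monic := by
    simp only [P]
    monicity!
  have hirr : Irreducible P := by
    rw [Polynomial.irreducible_iff_roots_eq_zero_of_degree_le_three (by omega) (by omega),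
      Multiset.eq_zero_iff_forall_notMem]
    intro z hz
    rw [Polynomial.mem_roots hPm.ne_zero] at hz
    exact hno z (by simpa [P] using hz)
  haveI := Fact.mk hirr
  have hrank : Module.finrank F (AdjoinRoot P) = 2 := by
    rw [(AdjoinRoot.powerBasis hPm.ne_zero).finrank, AdjoinRoot.powerBasis_dim, hP2]
  obtain ⟨φ⟩ := FiniteField.nonempty_algHom_of_finrank_dvd (F := F) (K := AdjoinRoot P) (L := K)
    (by rw [hrank, hd])
  refine ⟨φ (AdjoinRoot.root P), ?_⟩
  have h : Polynomial.aeval (φ (AdjoinRoot.root P)) P = 0 := by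
    rw [Polynomial.aeval_algHom_apply, AdjoinRoot.aeval_eq, AdjoinRoot.mk_self, map_zero]
  generalize φ (AdjoinRoot.root P) = r at h ⊢
  simpa [P] using h

end Cfsg.Agent.Lib.FieldRed
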